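import Mathlib.GroupTheory.OrderOfElement
import Mathlib.GroupTheory.SpecificGroups.Cyclic
import Mathlib.Tactic

/-!
# Group lemmas for the centraliser of the element of order five (helper358)
-/

set_option autoImplicit false

namespace Cfsg.Agent.H358.TS

section
variable {G : Type*} [Group G]

/-- `c` and `g` commute -/
def Cm (c g : G) : Prop := Commute c g

theorem Cm.of {c g : G} (h : c * g = g * c) : Cm c g := h
theorem Cm.eq {c g : G} (h : Cm c g) : c * g = g * c := h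
theorem Cm.mul {c a b : G} (ha : Cm c a) (hb : Cm c b) : Cm c (a * b) := Commute.mul_right ha hb
theorem Cm.pow {c g : G} (h : Cm c g) (n : ℕ) : Cm (c ^ n) g := Commute.pow_left h n

theorem g_conj {A S : Set G} (hS : S.Finite) (hA : ∀ a ∈ A, ∀ s ∈ S, a * s * a⁻¹ ∈ S) {g : G}
    (hg : g ∈ Subgroup.closure A) : ∀ s ∈ S, g * s * g⁻¹ ∈ S := by
  induction hg using Subgroup.closure_induction with
  | mem g hg => exact hA g hg
  | one => intro s hs; simpa using hs
  | mul a b _ _ ha hb =>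
    intro s hs
    have h1 := ha _ (hb s hs)
    have h2 : a * b * s * (a * b)⁻¹ = a * (b * s * b⁻¹) * a⁻¹ := by group
    rwa [h2]
  | inv a _ ha =>
    intro s hs
    have hf : Finite S := hS
    let f : S → S := fun y => ⟨a * y * a⁻¹, ha y y.2⟩
    have hf1 : Function.Injective f := by
      intro y y' h
      have h1 : a * (y : G) * a⁻¹ = a * y' * a⁻¹ := congrArg Subtype.val h
      exact Subtype.ext (mul_left_cancel (mul_right_cancel h1))
    obtain ⟨y, hy⟩ := Finite.surjective_of_injective hf1 ⟨s, hs⟩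
    have h1 : a * (y : G) * a⁻¹ = s := congrArg Subtype.val hy
    have h2 : a⁻¹ * s * a⁻¹⁻¹ = y := by rw [← h1]; group
    rw [h2]
    exact y.2

theorem g_comm {A : Set G} {c : G} (hA : ∀ a ∈ A, Cm c a) {g : G} (hg : g ∈ Subgroup.closure A) : Cm c g := by
  induction hg using Subgroup.closure_induction with
  | mem g hg => exact hA g hg
  | one => exact Commute.one_right c
  | mul a b _ _ ha hb => exact Commute.mul_right ha hb
  | inv a _ ha => exact Commute.inv_right ha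

theorem g_inv {c z Z : G} (h : z * Z = 1) (hz : Cm c z) : Cm c Z := by
  have h2 : Z = z⁻¹ := eq_inv_of_mul_eq_one_right h
  rw [h2]
  exact Commute.inv_right hz

/-- the exponents -/
theorem g_exp {x s : G} (hne : x * s ≠ s * x) (h3 : s ^ 3 = 1) {i : ℕ} (hi : i < 3) (h : Commute x (s ^ i)) : i = 0 := by
  rcases (show i = 0 ∨ i = 1 ∨ i = 2 by omega) with rfl | rfl | rfl
  · rfl
  · rw [pow_one] at h
    exact absurd h hne
  · exfalso
    apply hne
    have h4 : s = (s ^ 2)⁻¹ := eq_inv_of_mul_eq_one_right (by rw [← pow_succ]; exact h3)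
    have h5 := h.inv_right
    rw [← h4] at h5
    exact h5

theorem g_three {c g s1 s2 x1 x2 : G} {i j : ℕ} (hi : i < 3) (hj : j < 3) (h1 : g * c * g⁻¹ = s1 ^ i * s2 ^ j)
    (hg : Cm c g) (hc1 : Cm c x1) (hc2 : Cm c x2) (h12 : x1 * s2 = s2 * x1) (h21 : x2 * s1 = s1 * x2)
    (hs1 : s1 ^ 3 = 1) (hs2 : s2 ^ 3 = 1) (n1 : x1 * s1 ≠ s1 * x1) (n2 : x2 * s2 ≠ s2 * x2) : c = 1 := by
  have h2 : g * c * g⁻¹ = c := by rw [← hg.eq, mul_inv_cancel_right]
  rw [h2] at h1
  have c12 : Commute x1 s2 := h12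
  have c21 : Commute x2 s1 := h21
  have hi0 : i = 0 := by
    refine g_exp n1 hs1 hi ?_
    have h4 : s1 ^ i = c * (s2 ^ j)⁻¹ := by rw [h1, mul_inv_cancel_right]
    rw [h4]
    exact (Commute.symm hc1).mul_right (c12.pow_right j).inv_right
  have hj0 : j = 0 := by
    refine g_exp n2 hs2 hj ?_
    have h4 : s2 ^ j = (s1 ^ i)⁻¹ * c := by rw [h1, inv_mul_cancel_left]
    rw [h4]
    exact (c21.pow_right i).inv_right.mul_right (Commute.symm hc2)
  rw [h1, hi0, hj0, pow_zero, pow_zero, mul_one]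

theorem g_five {c g z x : G} (h1 : g * z * g⁻¹ ∈ Subgroup.zpowers c) (hx : Cm c x) (hx2 : x * x = 1) (hx1 : x ≠ 1) :
    (g⁻¹ * x * g) ^ 2 = 1 ∧ g⁻¹ * x * g ≠ 1 ∧ z * (g⁻¹ * x * g) = (g⁻¹ * x * g) * z := by
  obtain ⟨k, hk⟩ := Subgroup.mem_zpowers_iff.1 h1
  have h2 : Commute (c ^ k) x := Commute.zpow_left hx k
  rw [hk] at h2
  refine ⟨?_, ?_, ?_⟩
  · rw [pow_two]
    calc g⁻¹ * x * g * (g⁻¹ * x * g) = g⁻¹ * (x * x) * g := by group
      _ = 1 := by rw [hx2, mul_one, inv_mul_cancel]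
  · intro h3
    apply hx1
    calc x = g * (g⁻¹ * x * g) * g⁻¹ := by group
      _ = 1 := by rw [h3, mul_one, mul_inv_cancel]
  · have h3 := h2.eq
    calc z * (g⁻¹ * x * g) = g⁻¹ * (g * z * g⁻¹ * x) * g := by group
      _ = g⁻¹ * (x * (g * z * g⁻¹)) * g := by rw [h3]
      _ = _ := by group

theorem g_ne {x s : G} (h : x * s ≠ s * x) : x ≠ 1 := by
  intro h1
  rw [h1, one_mul, mul_one] at h
  exact h rfl

/-- the final count -/
theorem g_card {C : Subgroup G} {t : G} {n : ℕ} {w : ℕ → G} (h : ∀ c ∈ C, ∃ i < n, c * t * c⁻¹ = w i)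
    (h1 : ∀ c ∈ C, Cm c t → c = 1) : Nat.card C ≤ n := by
  classical
  have hS : ∀ c : C, ∃ i : Fin n, (c : G) * t * (c : G)⁻¹ = w i.1 := by
    rintro ⟨c, hc⟩
    obtain ⟨i, hi, h1⟩ := h c hc
    exact ⟨⟨i, hi⟩, h1⟩
  choose f hf using hS
  have hinj : Function.Injective f := by
    intro c c' h'
    have h2 : (c : G) * t * (c : G)⁻¹ = (c' : G) * t * (c' : G)⁻¹ := by rw [hf, hf, h']
    have h3 : (c : G)⁻¹ * (c' : G) = 1 := by
      refine h1 _ (Subgroup.mul_mem _ (Subgroup.inv_mem _ c.2) c'.2) ?_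
      show (c : G)⁻¹ * (c' : G) * t = t * ((c : G)⁻¹ * (c' : G))
      calc (c : G)⁻¹ * (c' : G) * t = (c : G)⁻¹ * ((c' : G) * t * (c' : G)⁻¹) * c' := by group
        _ = (c : G)⁻¹ * ((c : G) * t * (c : G)⁻¹) * c' := by rw [h2]
        _ = _ := by group
    exact Subtype.ext (inv_mul_eq_one.1 h3)
  refine (Nat.card_le_card_of_injective f hinj).trans ?_
  rw [Nat.card_eq_fintype_card, Fintype.card_fin]

/-- the order divides 45 -/
theorem g_45 {C : Subgroup G} (hC : Nat.card C ∣ 45) {c : G} (hc : c ∈ C) : c ^ 45 = 1 := by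
  have ho : orderOf c ∣ 45 := by
    have h1 : orderOf (⟨c, hc⟩ : C) ∣ Nat.card C := orderOf_dvd_natCard _
    rw [Subgroup.orderOf_mk] at h1
    exact h1.trans hC
  exact orderOf_dvd_iff_pow_eq_one.1 ho

/-- trivial, if no elements of order 3 and 5 -/
theorem g_one {P : G → Prop} (hP : ∀ c, P c → ∀ n : ℕ, P (c ^ n)) (h3 : ∀ c, P c → c ^ 3 = 1 → c = 1)
    (h5 : ∀ c, P c → c ^ 5 = 1 → c = 1) {c : G} (hc : P c) (h45 : c ^ 45 = 1) : c = 1 := by
  have h9 : c ^ 9 = 1 := h5 _ (hP c hc 9) (by rw [← pow_mul]; exact h45)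
  exact h3 c hc (h3 _ (hP c hc 3) (by rw [← pow_mul]; exact h9))

end

end Cfsg.Agent.H358.TS
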